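import Cfsg.Agent.S4441
import Cfsg.Agent.Blocks.CyclicOrtho
import Cfsg.Agent.Blocks.ExistsModular
import Cfsg.Agent.Characters.CCValues
import Cfsg.Agent.H672.Over
import Cfsg.Agent.H625.Real
import Cfsg.Agent.H686.CharKit
import Cfsg.Agent.H90.R4.Prime_m3
import Cfsg.Prelude.Def_KGroupFacts
import Cfsg.Agent.FastGrp
import Cfsg.Agent.Prune
set_option linter.all false
prune_inst 0x7f00000000000000000000000000000000000000000000000000000000000000000000000000000000000000000000000000000000000000000000000000000000000000000000000000000000000000003fffffffffffffffffffffffffffbeffbdffffffff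
open scoped Cfsg.Agent.FastGrp

-- part: H625/RealStem
section
/-!
# Real characters in the principal block, Sylow subgroup of prime order

`P` a Sylow `p`-subgroup of order `p` (`p` odd) such that `|N(P) : C(P)|` is even (equivalently the elements of
`P` are real).

* `exists_inverting` : an element inverting `P`;
* `apply_inv_of_dvd` : the characters of the principal block are real on the `p`-singular elements;
* `two_real` : the principal block contains two nontrivial real characters of different degrees prime to `p`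
  (a parity argument, no Brauer trees);
* `eq_one_of_le_ker` : a character of the principal block trivial on `K`, where `P ≤ K` and `G = K C(P)`, is
  the trivial character.
-/

set_option autoImplicit false
set_option linter.unusedSectionVars false

namespace Cfsg.Agent.H625.RealStem

open Cfsg Cfsg.Agent.Characters Cfsg.Agent.Blocks Cfsg.Agent.H625.Real
open scoped ComplexConjugate

universe u

variable {G : Type u} [Group G] [Finite G] {p : ℕ} [hp : Fact p.Prime]

/-- If `|N(P) : C(P)|` is even (`|P| = p` odd), then some element inverts `P`. -/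
theorem exists_inverting (hp2 : p ≠ 2) (P : Sylow p G) (hP : Nat.card P = p)
    (he : Even ((Subgroup.centralizer ((P : Subgroup G) : Set G)).relIndex
      (Subgroup.normalizer ((P : Subgroup G) : Set G)))) :
    ∃ n ∈ Subgroup.normalizer ((P : Subgroup G) : Set G), ∀ y ∈ (P : Subgroup G), n * y * n⁻¹ = y⁻¹ := by
  classical
  set C := Subgroup.centralizer ((P : Subgroup G) : Set G) with hC
  set N := Subgroup.normalizer ((P : Subgroup G) : Set G) with hN
  have hnorm : (C.subgroupOf N).Normal := by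
    rw [hC, hN]
    constructor
    rintro ⟨c, hcN⟩ hc ⟨g, hg⟩
    rw [Subgroup.mem_subgroupOf] at hc ⊢
    simp only [Subgroup.coe_mul, Subgroup.coe_inv]
    rw [Subgroup.mem_centralizer_iff] at hc ⊢
    intro y hy
    have h1 : g⁻¹ * y * g ∈ (P : Subgroup G) := by
      rw [Subgroup.mem_normalizer_iff.1 hg]
      have : g * (g⁻¹ * y * g) * g⁻¹ = y := by group
      rwa [this]
    have h2 := hc _ h1
    calc y * (g * c * g⁻¹) = g * ((g⁻¹ * y * g) * c) * g⁻¹ := by group
      _ = g * (c * (g⁻¹ * y * g)) * g⁻¹ := by rw [h2]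
      _ = g * c * g⁻¹ * y := by group
  have h2 : 2 ∣ Nat.card (N ⧸ C.subgroupOf N) := he.two_dvd
  haveI : Fact (Nat.Prime 2) := ⟨Nat.prime_two⟩
  obtain ⟨q, hq⟩ := exists_prime_orderOf_dvd_card' 2 h2
  obtain ⟨⟨n, hn⟩, rfl⟩ := QuotientGroup.mk_surjective q
  have hnC : n ∉ C := by
    intro h
    have h3 : (QuotientGroup.mk (⟨n, hn⟩ : N) : N ⧸ C.subgroupOf N) = 1 := by
      rw [QuotientGroup.eq_one_iff]
      exact h
    rw [h3, orderOf_one] at hq
    exact absurd hq (by norm_num)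
  have hn2 : n * n ∈ C := by
    have h3 : (QuotientGroup.mk (⟨n, hn⟩ : N) : N ⧸ C.subgroupOf N) ^ 2 = 1 := by
      rw [← hq]; exact pow_orderOf_eq_one _
    rw [pow_two, ← QuotientGroup.mk_mul, QuotientGroup.eq_one_iff] at h3
    exact h3
  refine ⟨n, hn, fun y hy => ?_⟩
  have hcomm : ∀ a ∈ (P : Subgroup G), ∀ b ∈ (P : Subgroup G), a * b = b * a := by
    have hcy : IsCyclic P := isCyclic_of_prime_card hP
    have hab : IsMulCommutative P := IsCyclic.isMulCommutative
    intro a ha b hb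
    exact congrArg Subtype.val (hab.is_comm.comm (⟨a, ha⟩ : P) ⟨b, hb⟩)
  have hy' : n * y * n⁻¹ ∈ (P : Subgroup G) := (Subgroup.mem_normalizer_iff.1 hn y).1 hy
  have h3 : n * (n * y * n⁻¹) * n⁻¹ = y := by
    have h4 := Subgroup.mem_centralizer_iff.1 hn2 y hy
    calc n * (n * y * n⁻¹) * n⁻¹ = (n * n) * y * (n * n)⁻¹ := by group
      _ = (y * (n * n)) * (n * n)⁻¹ := by rw [h4]
      _ = y := by group
  have h5 : n * (y * (n * y * n⁻¹)) * n⁻¹ = y * (n * y * n⁻¹) := by
    calc n * (y * (n * y * n⁻¹)) * n⁻¹ = (n * y * n⁻¹) * (n * (n * y * n⁻¹) * n⁻¹) := by group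
      _ = (n * y * n⁻¹) * y := by rw [h3]
      _ = y * (n * y * n⁻¹) := hcomm _ hy' _ hy
  have h6 : y * (n * y * n⁻¹) = 1 := by
    by_contra hne
    apply hnC
    rw [hC, ← CyclicOrtho.centralizer_eq P hP ((P : Subgroup G).mul_mem hy hy') hne,
      Subgroup.mem_centralizer_singleton_iff]
    calc n * (y * (n * y * n⁻¹)) = n * (y * (n * y * n⁻¹)) * n⁻¹ * n := by group
      _ = y * (n * y * n⁻¹) * n := by rw [h5]
  exact (inv_eq_of_mul_eq_one_right h6).symm

/-- The value of a character of the principal block at a `p`-singular element. -/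
theorem exists_part {M : Ideal AlgInt} (hM : IsPModular p M) (P : Sylow p G) (hP : Nat.card P = p)
    {g : G} (hg : p ∣ orderOf g) :
    ∃ c x y : G, x ∈ (P : Subgroup G) ∧ x ≠ 1 ∧ Commute x y ∧ ¬ p ∣ orderOf y ∧ c * g * c⁻¹ = x * y := by
  obtain ⟨x, y, hxyg, hxy, hx, hy⟩ := PPart.exists_isPPart p g
  have hx1 : x ≠ 1 := by
    rintro rfl
    rw [one_mul] at hxyg
    rw [← hxyg] at hg
    exact hy hg
  have hxp : IsPGroup p (Subgroup.zpowers x) := by
    obtain ⟨k, hk⟩ := hx
    exact IsPGroup.of_card (n := k) (by rw [Nat.card_zpowers, hk])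
  obtain ⟨Q, hQ⟩ := hxp.exists_le_sylow
  obtain ⟨c, hc⟩ := MulAction.exists_smul_eq G Q P
  refine ⟨c, c * x * c⁻¹, c * y * c⁻¹, ?_, ?_, hxy.map (MulAut.conj c).toMonoidHom, ?_, ?_⟩
  · rw [← hc]
    have h1 : x ∈ (Q : Subgroup G) := hQ (Subgroup.mem_zpowers x)
    show c * x * c⁻¹ ∈ ((c • Q : Sylow p G) : Subgroup G)
    rw [Sylow.coe_subgroup_smul]
    exact Subgroup.smul_mem_pointwise_smul _ (MulAut.conj c) _ h1
  · intro h
    apply hx1
    have : x = c⁻¹ * (c * x * c⁻¹) * c := by group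
    rw [this, h]; group
  · have h2 : orderOf (c * y * c⁻¹) = orderOf y :=
      orderOf_injective (MulAut.conj c).toMonoidHom (MulAut.conj c).injective y
    rw [h2]; exact hy
  · rw [← hxyg]; group

/-- The characters of the principal block are real on the `p`-singular elements. -/
theorem apply_inv_of_dvd {M : Ideal AlgInt} (hM : IsPModular p M) (hp2 : p ≠ 2) (P : Sylow p G) (hP : Nat.card P = p)
    (he : Even ((Subgroup.centralizer ((P : Subgroup G) : Set G)).relIndex
      (Subgroup.normalizer ((P : Subgroup G) : Set G)))) {χ : IrrCharacter G} (hχ : χ ∈ principalBlock M G)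
    {g : G} (hg : p ∣ orderOf g) : (χ : G → ℂ) g⁻¹ = (χ : G → ℂ) g := by
  obtain ⟨n, -, hn⟩ := exists_inverting hp2 P hP he
  obtain ⟨c, x, y, hx, hx1, hxy, hy, hcg⟩ := exists_part hM P hP hg
  have hcl : ∀ a b : G, (χ : G → ℂ) (b * a * b⁻¹) = (χ : G → ℂ) a := fun a b =>
    Core.isIrr_isClassFunction χ.2 a b
  have h1 : (χ : G → ℂ) g = (χ : G → ℂ) x := by
    rw [← hcl g c, hcg, CyclicOrtho.mul_eq P hP hM hx hx1 hxy hy hχ]
  have h2 : (χ : G → ℂ) g⁻¹ = (χ : G → ℂ) x⁻¹ := by
    have h3 : c * g⁻¹ * c⁻¹ = x⁻¹ * y⁻¹ := by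
      have h4 : c * g⁻¹ * c⁻¹ = (c * g * c⁻¹)⁻¹ := by group
      rw [h4, hcg, hxy.eq, mul_inv_rev]
    rw [← hcl g⁻¹ c, h3, CyclicOrtho.mul_eq P hP hM (inv_mem hx) (inv_ne_one.2 hx1) hxy.inv_inv
      (by rwa [orderOf_inv]) hχ]
  rw [h1, h2, ← hn x hx, hcl]

/-- Nonreal characters cancel modulo two. -/
theorem sum_real_zmod (S : Finset (IrrCharacter G)) (hS : ∀ χ ∈ S, conjI χ ∈ S) (f : IrrCharacter G → ZMod 2)
    (hf : ∀ χ ∈ S, f (conjI χ) = f χ) [DecidablePred fun χ : IrrCharacter G => conjI χ = χ] :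
    ∑ χ ∈ S.filter (fun χ => conjI χ = χ), f χ = ∑ χ ∈ S, f χ := by
  classical
  rw [← Finset.sum_filter_add_sum_filter_not S (fun χ => conjI χ = χ)]
  have h1 : ∑ χ ∈ S.filter (fun χ => ¬ conjI χ = χ), f χ = 0 := by
    refine Finset.sum_involution (fun χ _ => conjI χ) ?_ ?_ ?_ ?_
    · intro χ hχ
      rw [hf χ (Finset.mem_filter.1 hχ).1]
      exact CharTwo.add_self_eq_zero _
    · intro χ hχ _
      exact (Finset.mem_filter.1 hχ).2
    · intro χ hχ
      have h2 := Finset.mem_filter.1 hχ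
      refine Finset.mem_filter.2 ⟨hS χ h2.1, fun h => h2.2 ?_⟩
      rw [conjI_conjI] at h
      exact h.symm
    · intro χ _
      exact conjI_conjI χ
  rw [h1, add_zero]

theorem im_eq_zero {χ : IrrCharacter G} (h : conjI χ = χ) (g : G) : ((χ : G → ℂ) g).im = 0 := by
  rw [← Complex.conj_eq_iff_im, ← conjI_apply, h]

theorem deg_conjI (χ : IrrCharacter G) : charDegree (conjI χ : G → ℂ) = charDegree (χ : G → ℂ) := by
  have h1 := H672.coe_charDegree (conjI χ).2
  have h2 := H672.coe_charDegree χ.2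
  have h3 := conjI_apply_one χ
  rw [← h1, ← h2] at h3
  exact_mod_cast h3

theorem deg_one : charDegree (CCValues.one G : G → ℂ) = 1 := by
  have h1 := H672.coe_charDegree (CCValues.one G).2
  have h2 : (CCValues.one G : G → ℂ) 1 = 1 := rfl
  rw [h2] at h1
  exact_mod_cast h1

theorem one_mem {M : Ideal AlgInt} (hM : IsPModular p M) : CCValues.one G ∈ principalBlock M G := by
  intro g
  change MemLocalIdeal M (centralChar (fun _ : G => (1 : ℂ)) g - centralChar (fun _ : G => (1 : ℂ)) g)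
  rw [sub_self]
  exact Induced.memLocalIdeal_zero hM.2.1.isPrime

theorem conjI_one : conjI (CCValues.one G) = CCValues.one G := by
  apply Subtype.ext
  funext g
  show conj ((1 : G → ℂ) g) = (1 : G → ℂ) g
  simp

theorem conjI_mem_principal {M : Ideal AlgInt} (hM : IsPModular p M) {χ : IrrCharacter G}
    (hχ : χ ∈ principalBlock M G) : conjI χ ∈ principalBlock M G := by
  haveI := hM.2.1.isPrime
  refine conjI_mem (B := principalBlock M G) ⟨CCValues.one G, rfl⟩ (one_mem hM) ?_ hχ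
  rw [conjI_one]
  exact Basic.sameBlock_refl _

theorem real_of_inv {χ : IrrCharacter G} (h : ∀ g, (χ : G → ℂ) g⁻¹ = (χ : G → ℂ) g) : conjI χ = χ := by
  apply Subtype.ext
  funext g
  rw [conjI_apply, ← apply_inv, h]

/-- the inertial index divides `p - 1` -/
theorem relIndex_dvd (P : Sylow p G) (hP : Nat.card P = p) :
    (Subgroup.centralizer ((P : Subgroup G) : Set G)).relIndex
      (Subgroup.normalizer ((P : Subgroup G) : Set G)) ∣ p - 1 := by
  have hcy : IsCyclic (P : Subgroup G) := isCyclic_of_prime_card hP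
  have key := Subgroup.card_dvd_of_injective _
    (QuotientGroup.kerLift_injective (P : Subgroup G).normalizerMonoidHom)
  rw [Subgroup.normalizerMonoidHom_ker, ← Subgroup.index, ← Subgroup.relIndex, IsCyclic.card_mulAut] at key
  have h1 : Nat.card (P : Subgroup G) = p := hP
  rwa [h1, Nat.totient_prime hp.out] at key

theorem dvd_small {a : ℤ} (h : (p : ℤ) ∣ a) (h1 : |a| < p) : a = 0 := Int.eq_zero_of_abs_lt_dvd h h1

theorem cast_sign {s : ℤ} (h : s = 1 ∨ s = -1) : (s : ZMod 2) = 1 := by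
  rcases h with h | h <;> rw [h] <;> decide

/-- **Parity.** `|P| = p` odd Sylow, `e = |N(P) : C(P)|` even: the principal block contains two nontrivial real
characters of different degrees, the first `≡ ± 1` and the second `≡ ± e` modulo `p`. -/
theorem two_real {M : Ideal AlgInt} (hM : IsPModular p M) (hp2 : p ≠ 2) (P : Sylow p G) (hP : Nat.card P = p)
    {e : ℕ} (hee : (Subgroup.centralizer ((P : Subgroup G) : Set G)).relIndex
      (Subgroup.normalizer ((P : Subgroup G) : Set G)) = e) (he : Even e) :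
    ∃ χ₁ ∈ principalBlock M G, ∃ χ₂ ∈ principalBlock M G, conjI χ₁ = χ₁ ∧ conjI χ₂ = χ₂ ∧
      χ₁ ≠ CCValues.one G ∧ χ₂ ≠ CCValues.one G ∧
      charDegree (χ₁ : G → ℂ) ≠ charDegree (χ₂ : G → ℂ) ∧
      (∃ s : ℤ, (s = 1 ∨ s = -1) ∧ (p : ℤ) ∣ (charDegree (χ₁ : G → ℂ) : ℤ) - s) ∧
      (∃ s : ℤ, (s = 1 ∨ s = -1) ∧ (p : ℤ) ∣ (charDegree (χ₂ : G → ℂ) : ℤ) - s * e) := by
  classical
  have := Fintype.ofFinite G
  haveI : Finite (IrrCharacter G) := Core.finite_irr
  have hpp : p.Prime := hp.out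
  have hp3 : 3 ≤ p := by
    have := hpp.two_le
    omega
  have hodd : Odd p := hpp.odd_of_ne_two hp2
  have hep : e ∣ p - 1 := hee ▸ relIndex_dvd P hP
  have he0 : e ≠ 0 := by
    rintro rfl
    rw [zero_dvd_iff] at hep
    omega
  have he2 : 2 ≤ e := by
    obtain ⟨k, hk⟩ := he
    omega
  have hep1 : e ≤ p - 1 := Nat.le_of_dvd (by omega) hep
  obtain ⟨X, Y, hXY, hdis, hX, hY, δ, ε, hδ, hε, hY1, hYY, hrel⟩ := S4441.result p M hM hp2 P hP e hee
  have hB : ∀ χ : IrrCharacter G, χ ∈ principalBlock M G ↔ χ ∈ X ∨ χ ∈ Y := fun χ => by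
    rw [hXY]; exact Set.mem_union _ _ _
  have hone : CCValues.one G ∈ principalBlock M G := one_mem hM
  have hconj : ∀ χ ∈ principalBlock M G, conjI χ ∈ principalBlock M G := fun χ hχ =>
    conjI_mem_principal hM hχ
  -- finsets
  set X' : Finset (IrrCharacter G) := X.toFinite.toFinset with hX'
  have hmX : ∀ χ, χ ∈ X' ↔ χ ∈ X := fun χ => Set.Finite.mem_toFinset _
  have hcX : X'.card = e := by
    rw [← hX, Nat.card_coe_set_eq, Set.ncard_eq_toFinset_card X X.toFinite]
  have hdX : ∀ χ ∈ X, (p : ℤ) ∣ (charDegree (χ : G → ℂ) : ℤ) - δ χ := fun χ hχ =>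
    ((hδ χ hχ).2.1).symm.dvd
  have hdY : ∀ θ ∈ Y, (p : ℤ) ∣ (charDegree (θ : G → ℂ) : ℤ) - ε * e := fun θ hθ =>
    (hY1 θ hθ).symm.dvd
  rcases Nat.lt_or_ge e (p - 1) with hlt | hge
  · -- `e < p - 1`
    have hsep : ∀ s t : ℤ, (s = 1 ∨ s = -1) → (t = 1 ∨ t = -1) → ¬ (p : ℤ) ∣ s - t * e := by
      intro s t hs ht hd
      have h1 : s - t * e = 0 := by
        apply dvd_small hd
        rw [abs_lt]
        rcases hs with h | h <;> rcases ht with h' | h' <;> rw [h, h'] <;> constructor <;> omega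
      rcases hs with h | h <;> rcases ht with h' | h' <;> rw [h, h'] at h1 <;> omega
    have hsepc : ∀ χ ∈ X, ∀ θ ∈ Y, charDegree (χ : G → ℂ) ≠ charDegree (θ : G → ℂ) := by
      intro χ hχ θ hθ h
      refine hsep (δ χ) ε (hδ χ hχ).1 hε ?_
      have h1 := dvd_sub (hdY θ hθ) (hdX χ hχ)
      rw [h] at h1
      have h2 : (charDegree (θ : G → ℂ) : ℤ) - ε * e - ((charDegree (θ : G → ℂ) : ℤ) - δ χ) = δ χ - ε * e := by ring
      rwa [h2] at h1
    have h1Y : CCValues.one G ∉ Y := by
      intro h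
      refine hsep 1 ε (Or.inl rfl) hε ?_
      have h1 := hdY _ h
      rw [deg_one] at h1
      exact_mod_cast h1
    have h1X : CCValues.one G ∈ X := ((hB _).1 hone).resolve_right h1Y
    have hYne : Y.Nonempty := by
      rw [← Set.nonempty_coe_sort]
      refine (Nat.card_pos_iff.1 ?_).1
      rw [hY]
      exact Nat.div_pos hep1 (by omega)
    have hcX' : ∀ χ ∈ X, conjI χ ∈ X := by
      intro χ hχ
      refine ((hB _).1 (hconj χ ((hB χ).2 (Or.inl hχ)))).resolve_right fun h => ?_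
      exact hsepc χ hχ _ h (deg_conjI χ).symm
    have hcY' : ∀ θ ∈ Y, conjI θ ∈ Y := by
      intro θ hθ
      refine ((hB _).1 (hconj θ ((hB θ).2 (Or.inr hθ)))).resolve_left fun h => ?_
      exact hsepc _ h θ hθ (deg_conjI θ)
    obtain ⟨θ, hθ⟩ := hYne
    have hθr : conjI θ = θ := by
      apply real_of_inv
      intro g
      by_cases hg : p ∣ orderOf g
      · exact apply_inv_of_dvd hM hp2 P hP (hee ▸ he) ((hB θ).2 (Or.inr hθ)) hg
      · rw [apply_inv]
        exact hYY _ (hcY' θ hθ) θ hθ g hg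
    obtain ⟨χ, hχX, hχr, hχ1⟩ : ∃ χ ∈ X, conjI χ = χ ∧ χ ≠ CCValues.one G := by
      by_contra hcon
      push Not at hcon
      have h1 := sum_real_zmod X' (fun χ hχ => (hmX _).2 (hcX' χ ((hmX χ).1 hχ))) (fun _ => 1)
        (fun _ _ => rfl)
      have h2 : X'.filter (fun χ => conjI χ = χ) = {CCValues.one G} := by
        ext χ
        rw [Finset.mem_filter, Finset.mem_singleton]
        constructor
        · rintro ⟨h3, h4⟩
          exact hcon χ ((hmX χ).1 h3) h4
        · rintro rfl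
          exact ⟨(hmX _).2 h1X, conjI_one⟩
      rw [h2, Finset.sum_singleton, Finset.sum_const, hcX, nsmul_eq_mul, mul_one] at h1
      have h3 : ((e : ℕ) : ZMod 2) = 0 := (ZMod.natCast_eq_zero_iff e 2).2 he.two_dvd
      rw [h3] at h1
      exact one_ne_zero h1
    exact ⟨χ, (hB χ).2 (Or.inl hχX), θ, (hB θ).2 (Or.inr hθ), hχr, hθr, hχ1,
      fun h => h1Y (h ▸ hθ), hsepc χ hχX θ hθ, ⟨δ χ, (hδ χ hχX).1, hdX χ hχX⟩, ⟨ε, hε, hdY θ hθ⟩⟩
  · -- `e = p - 1`
    have hepe : e = p - 1 := le_antisymm hep1 hge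
    have hcardY : Nat.card Y = 1 := by rw [hY, hepe]; exact Nat.div_self (by omega)
    obtain ⟨hsub, hne⟩ := Nat.card_eq_one_iff_unique.1 hcardY
    obtain ⟨θ, hθ⟩ := hne
    have hYθ : ∀ ψ ∈ Y, ψ = θ := fun ψ hψ =>
      congrArg Subtype.val (Subsingleton.elim (⟨ψ, hψ⟩ : Y) ⟨θ, hθ⟩)
    have hθX : θ ∉ X' := fun h => Set.disjoint_left.1 hdis ((hmX θ).1 h) hθ
    set T := insert θ X' with hT
    have hmT : ∀ χ, χ ∈ T ↔ χ ∈ principalBlock M G := by
      intro χ
      rw [hT, Finset.mem_insert, hmX, hB]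
      constructor
      · rintro (rfl | h)
        · exact Or.inr hθ
        · exact Or.inl h
      · rintro (h | h)
        · exact Or.inr h
        · exact Or.inl (hYθ χ h)
    have hcT : T.card = p := by
      rw [hT, Finset.card_insert_of_notMem hθX, hcX, hepe]
      omega
    -- congruences
    have hez : ((e : ℕ) : ℤ) = (p : ℤ) - 1 := by
      rw [hepe, Nat.cast_sub hpp.one_lt.le]; rfl
    have hcong : ∀ χ ∈ T, ∃ s : ℤ, (s = 1 ∨ s = -1) ∧ (p : ℤ) ∣ (charDegree (χ : G → ℂ) : ℤ) - s := by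
      intro χ hχ
      rw [hT, Finset.mem_insert, hmX] at hχ
      rcases hχ with rfl | h
      · refine ⟨-ε, ?_, ?_⟩
        · rcases hε with h | h <;> rw [h] <;> norm_num
        · have h1 := hdY χ hθ
          rw [hez] at h1
          have h2 : (charDegree (χ : G → ℂ) : ℤ) - -ε = (charDegree (χ : G → ℂ) : ℤ) - ε * (p - 1) + p * ε := by ring
          rw [h2]
          exact dvd_add h1 (Dvd.intro _ rfl)
      · exact ⟨δ χ, (hδ χ h).1, hdX χ h⟩
    have hcong2 : ∀ χ ∈ T, ∃ s : ℤ, (s = 1 ∨ s = -1) ∧ (p : ℤ) ∣ (charDegree (χ : G → ℂ) : ℤ) - s * e := by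
      intro χ hχ
      obtain ⟨s, hs, h1⟩ := hcong χ hχ
      refine ⟨-s, ?_, ?_⟩
      · rcases hs with h | h <;> rw [h] <;> norm_num
      · rw [hez]
        have h2 : (charDegree (χ : G → ℂ) : ℤ) - -s * (p - 1) = (charDegree (χ : G → ℂ) : ℤ) - s + p * s := by ring
        rw [h2]
        exact dvd_add h1 (Dvd.intro _ rfl)
    -- the relation
    have hrel1 : (charDegree (θ : G → ℂ) : ZMod 2) = ∑ χ ∈ X', (charDegree (χ : G → ℂ) : ZMod 2) := by
      have h1 := hrel θ hθ 1 (by rw [orderOf_one]; exact hpp.one_lt.ne' ∘ Nat.dvd_one.1)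
      rw [finsum_mem_eq_finite_toFinset_sum _ X.toFinite, ← H672.coe_charDegree θ.2] at h1
      have h2 : ∀ χ ∈ X', (δ χ : ℂ) * (χ : G → ℂ) 1 = ((δ χ * (charDegree (χ : G → ℂ) : ℤ) : ℤ) : ℂ) := by
        intro χ _
        rw [← H672.coe_charDegree χ.2]; push_cast; ring
      rw [Finset.sum_congr rfl h2] at h1
      have h3 : ε * (charDegree (θ : G → ℂ) : ℤ) = ∑ χ ∈ X', δ χ * (charDegree (χ : G → ℂ) : ℤ) := by
        exact_mod_cast h1
      have h4 := congrArg (Int.cast : ℤ → ZMod 2) h3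
      push_cast at h4
      rw [cast_sign hε, one_mul] at h4
      rw [h4]
      refine Finset.sum_congr rfl fun χ hχ => ?_
      rw [cast_sign (hδ χ ((hmX χ).1 hχ)).1, one_mul]
    have hcjT : ∀ χ ∈ T, conjI χ ∈ T := fun χ hχ => (hmT _).2 (hconj χ ((hmT χ).1 hχ))
    have hs1 := sum_real_zmod T hcjT (fun χ => (charDegree (χ : G → ℂ) : ZMod 2)) (fun χ _ => by
      show ((charDegree (conjI χ : G → ℂ) : ℕ) : ZMod 2) = _
      rw [deg_conjI])
    have hs2 := sum_real_zmod T hcjT (fun _ => (1 : ZMod 2)) (fun _ _ => rfl)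
    rw [hT, Finset.sum_insert hθX, ← hT, hrel1, CharTwo.add_self_eq_zero] at hs1
    rw [Finset.sum_const, Finset.sum_const, hcT, nsmul_eq_mul, nsmul_eq_mul, mul_one, mul_one] at hs2
    have hp1 : ((p : ℕ) : ZMod 2) = 1 := (ZMod.natCast_eq_one_iff_odd).2 hodd
    rw [hp1] at hs2
    set R := T.filter (fun χ => conjI χ = χ) with hR
    have h1R : CCValues.one G ∈ R := Finset.mem_filter.2 ⟨(hmT _).2 hone, conjI_one⟩
    obtain ⟨χ₁, h1, χ₂, h2, h12⟩ : ∃ χ₁ ∈ R.erase (CCValues.one G), ∃ χ₂ ∈ R.erase (CCValues.one G),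
        charDegree (χ₁ : G → ℂ) ≠ charDegree (χ₂ : G → ℂ) := by
      by_contra hcon
      push Not at hcon
      rw [← Finset.add_sum_erase R _ h1R, deg_one, Nat.cast_one] at hs1
      have hce : (R.erase (CCValues.one G)).card + 1 = R.card := Finset.card_erase_add_one h1R
      have hce2 : (((R.erase (CCValues.one G)).card : ℕ) : ZMod 2) = 0 := by
        have h3 := congrArg (Nat.cast : ℕ → ZMod 2) hce
        push_cast at h3
        rw [hs2] at h3
        exact add_eq_right.1 h3
      rcases (R.erase (CCValues.one G)).eq_empty_or_nonempty with h3 | ⟨χ₀, h3⟩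
      · rw [h3, Finset.sum_empty, add_zero] at hs1
        exact one_ne_zero hs1
      · rw [Finset.sum_congr rfl fun χ hχ => by rw [hcon χ hχ χ₀ h3], Finset.sum_const, nsmul_eq_mul,
          hce2, zero_mul, add_zero] at hs1
        exact one_ne_zero hs1
    rw [Finset.mem_erase, hR, Finset.mem_filter] at h1 h2
    exact ⟨χ₁, (hmT _).1 h1.2.1, χ₂, (hmT _).1 h2.2.1, h1.2.2, h2.2.2, h1.1, h2.1, h12,
      hcong χ₁ h1.2.1, hcong2 χ₂ h2.2.1⟩

/-- A character of the principal block which is trivial on a normal subgroup `K ≥ P` with `K C(P) = G` is the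
trivial character. -/
theorem eq_one_of_ker {M : Ideal AlgInt} (hM : IsPModular p M) (P : Sylow p G) (hP : Nat.card P = p)
    {K : Subgroup G} [K.Normal] (hPK : (P : Subgroup G) ≤ K)
    (hK : K ⊔ Subgroup.centralizer ((P : Subgroup G) : Set G) = ⊤)
    {χ : IrrCharacter G} (hχ : χ ∈ principalBlock M G)
    (hker : ∀ k ∈ K, (χ : G → ℂ) k = (χ : G → ℂ) 1) : χ = CCValues.one G := by
  classical
  have := Fintype.ofFinite G
  have hpp : p.Prime := hp.out
  have hker2 : ∀ k ∈ K, ∀ g : G, (χ : G → ℂ) (k * g) = (χ : G → ℂ) g := fun k hk g =>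
    H686.CharKit.apply_mul_of_eq (Core.isIrr_isCharacter χ.2) (hker k hk) g
  have hcl : ∀ a b : G, (χ : G → ℂ) (b * a * b⁻¹) = (χ : G → ℂ) a := fun a b =>
    Core.isIrr_isClassFunction χ.2 a b
  have hcv : ∀ g : G, (χ : G → ℂ) g = (χ : G → ℂ) 1 := by
    intro g
    have hg : g ∈ K ⊔ Subgroup.centralizer ((P : Subgroup G) : Set G) := by rw [hK]; trivial
    obtain ⟨k, hk, c, hc, rfl⟩ := Subgroup.mem_sup_of_normal_left.1 hg
    rw [hker2 k hk]
    obtain ⟨x, y, hxyg, hxy, hx, hy⟩ := PPart.exists_isPPart p c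
    -- `x` and `y` are powers of `c`
    obtain ⟨n, hn⟩ := PPart.exists_pow_eq (G := G) p
    have hxc : x = c ^ n := (hn c x ⟨y, hxyg, hxy, hx, hy⟩).symm
    have hxC : x ∈ Subgroup.centralizer ((P : Subgroup G) : Set G) := by
      rw [hxc]; exact pow_mem hc n
    have hyC : y ∈ Subgroup.centralizer ((P : Subgroup G) : Set G) := by
      have : y = x⁻¹ * c := by rw [← hxyg]; group
      rw [this]
      exact mul_mem (inv_mem hxC) hc
    -- `x ∈ P`
    have hxP : x ∈ (P : Subgroup G) := by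
      have hxp : IsPGroup p (Subgroup.zpowers x) := by
        obtain ⟨k, hk⟩ := hx
        exact IsPGroup.of_card (n := k) (by rw [Nat.card_zpowers, hk])
      have h1 : (P : Subgroup G) ≤ Subgroup.normalizer ((P : Subgroup G) : Set G) := Subgroup.le_normalizer
      have h2 : Subgroup.zpowers x ≤ Subgroup.normalizer ((P : Subgroup G) : Set G) := by
        rw [Subgroup.zpowers_le]
        exact Subgroup.centralizer_le_normalizer _ hxC
      have h3 : IsPGroup p (Subgroup.zpowers x ⊔ (P : Subgroup G) : Subgroup G) :=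
        IsPGroup.to_sup_of_normal_right' hxp P.2 h2
      have h4 := P.3 h3 le_sup_right
      rw [← h4]
      exact (le_sup_left : Subgroup.zpowers x ≤ _) (Subgroup.mem_zpowers x)
    rw [← hxyg, hker2 x (hPK hxP)]
    obtain ⟨z, hz⟩ : ∃ z ∈ (P : Subgroup G), z ≠ 1 := by
      have h1 : (P : Subgroup G) ≠ ⊥ := by
        intro h
        have h2 : Nat.card (P : Subgroup G) = p := hP
        rw [h, Subgroup.card_bot] at h2
        exact hpp.one_lt.ne h2
      obtain ⟨z, hz⟩ := Subgroup.ne_bot_iff_exists_ne_one.1 h1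
      exact ⟨z, z.2, fun h => hz (Subtype.ext h)⟩
    have hzy : Commute z y := (Subgroup.mem_centralizer_iff.1 hyC z hz.1)
    have h5 := CyclicOrtho.mul_eq P hP hM hz.1 hz.2 hzy hy hχ
    rw [hker2 z (hPK hz.1)] at h5
    rw [h5, hker z (hPK hz.1)]
  -- a constant irreducible character is trivial
  by_contra hne
  have h0 : classInner (χ : G → ℂ) (1 : G → ℂ) = 0 :=
    Core.classInner_irr_ne χ.2 Core.isIrr_one fun h => hne (Subtype.ext h)
  have h1 : (χ : G → ℂ) = (χ : G → ℂ) 1 • (1 : G → ℂ) := by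
    funext g
    rw [Pi.smul_apply, Pi.one_apply, smul_eq_mul, mul_one]
    exact hcv g
  rw [h1, Core.classInner_smul_left, Core.classInner_irr_self Core.isIrr_one, mul_one] at h0
  exact Core.isIrr_apply_one_ne_zero χ.2 h0

/-- **Two real degrees.** `P` a Sylow `p`-subgroup of order `p` (`p` odd) of `G`, `e = |N(P) : C(P)|` even, `N` a
normal subgroup with `P ≤ N` and `N C(P) = G`: two different degrees of real irreducible characters not trivial
on `N`, the first `≡ ± 1` and the second `≡ ± e` modulo `p`. -/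
theorem rd_two (hp2 : p ≠ 2) (P : Sylow p G) (hP : Nat.card P = p)
    {e : ℕ} (hee : (Subgroup.centralizer ((P : Subgroup G) : Set G)).relIndex
      (Subgroup.normalizer ((P : Subgroup G) : Set G)) = e) (he : Even e)
    (N : Subgroup G) [N.Normal] (hPN : (P : Subgroup G) ≤ N)
    (hN : N ⊔ Subgroup.centralizer ((P : Subgroup G) : Set G) = ⊤) :
    ∃ a b : ℕ, a ≠ b ∧ H619.R4.RD G N a ∧ H619.R4.RD G N b ∧
      (∃ s : ℤ, (s = 1 ∨ s = -1) ∧ (p : ℤ) ∣ (a : ℤ) - s) ∧
      (∃ s : ℤ, (s = 1 ∨ s = -1) ∧ (p : ℤ) ∣ (b : ℤ) - s * e) := by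
  obtain ⟨M, hM⟩ := ExistsModular.exists_isPModular hp.out
  obtain ⟨χ₁, h1, χ₂, h2, hr1, hr2, hn1, hn2, hne, hc1, hc2⟩ := two_real hM hp2 P hP hee he
  refine ⟨_, _, hne, ⟨χ₁, im_eq_zero hr1, ?_, rfl⟩, ⟨χ₂, im_eq_zero hr2, ?_, rfl⟩, hc1, hc2⟩
  · by_contra hcon
    push Not at hcon
    exact hn1 (eq_one_of_ker hM P hP hPN hN h1 hcon)
  · by_contra hcon
    push Not at hcon
    exact hn2 (eq_one_of_ker hM P hP hPN hN h2 hcon)

end Cfsg.Agent.H625.RealStem
end

-- part: H625/R4/Tools
section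
/-!
# S4554, tools for the sporadic rows (helper625)

* `index_dvd_out` : `N ≅ S` normal in `G`, `C_G(N) = 1`: `|G : N|` divides `|Out S|`;
* `row_of_model` : the row of a group `S` with `Out S = 1` from three degrees of `S`;
* `even_of_real` : `|N(P) : C(P)|` is even if some element of order divisible by `p` is real;
* `even_of_fermat` : ... if `p` is a Fermat prime and `G` is simple;
* `three_of_degree` : three degrees from one real degree which is not `≡ ± 1, ± e` for the even divisors `e` of `p - 1`.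
-/

set_option autoImplicit false

namespace Cfsg.Agent.H625.R4

open Cfsg Cfsg.Agent.H619.R4 Cfsg.Agent.H625.RealStem

universe u v

/-- Only inner automorphisms are induced: the index divides `|Out S|`. -/
theorem index_dvd_out {S : Type v} {G : Type u} [Group S] [Group G] [Finite G] (N : Subgroup G) [N.Normal] (e : S ≃* N)
    (hC : Subgroup.centralizer (N : Set G) = ⊥) : N.index ∣ Nat.card (Out S) := by
  classical
  have : Finite N := inferInstance
  have : Finite S := Finite.of_equiv N e.symm.toEquiv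
  have : Finite (MulAut S) := inferInstance
  -- `G → Aut N → Aut S`
  let φ : G →* MulAut S := (MulAut.congr e.symm).toMonoidHom.comp (MulAut.conjNormal : G →* MulAut N)
  have hφ : ∀ (g : G) (s : S), e (φ g s) = (MulAut.conjNormal g : MulAut N) (e s) := by
    intro g s
    show e (e.symm ((MulAut.conjNormal g : MulAut N) (e.symm.symm s))) = _
    rw [MulEquiv.apply_symm_apply]
    rfl
  have hinj : Function.Injective φ := by
    rw [injective_iff_map_eq_one]
    intro g hg
    have h1 : g ∈ Subgroup.centralizer (N : Set G) := by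
      rw [Subgroup.mem_centralizer_iff]
      intro n hn
      have h2 := hφ g (e.symm ⟨n, hn⟩)
      rw [hg] at h2
      rw [MulAut.one_apply, MulEquiv.apply_symm_apply] at h2
      have h3 : n = g * n * g⁻¹ := by
        have h4 := congrArg Subtype.val h2
        rwa [MulAut.conjNormal_apply] at h4
      calc n * g = (g * n * g⁻¹) * g := by rw [← h3]
        _ = g * n := by group
    rw [hC] at h1
    exact (Subgroup.mem_bot).1 h1
  have hN : N.map φ = Inn S := by
    apply le_antisymm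
    · rintro _ ⟨n, hn, rfl⟩
      refine ⟨e.symm ⟨n, hn⟩, ?_⟩
      ext s
      apply e.injective
      rw [hφ, MulAut.conj_apply, map_mul, map_mul, map_inv, MulEquiv.apply_symm_apply]
      apply Subtype.ext
      rw [MulAut.conjNormal_apply]
      rfl
    · rintro _ ⟨s, rfl⟩
      refine ⟨e s, (e s).2, ?_⟩
      ext t
      apply e.injective
      rw [hφ, MulAut.conj_apply, map_mul, map_mul, map_inv]
      apply Subtype.ext
      rw [MulAut.conjNormal_apply]
      rfl
  have h1 : (Inn S).relIndex φ.range = N.index := by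
    have h2 : φ.range = (⊤ : Subgroup G).map φ := MonoidHom.range_eq_map φ
    rw [← hN, h2, Subgroup.relIndex_map_map_of_injective _ _ hinj, Subgroup.relIndex_top_right]
  have h2 : Nat.card (Out S) = (Inn S).index := rfl
  rw [h2, ← h1]
  exact Subgroup.relIndex_dvd_index_of_normal _ _

theorem RD.equiv {G : Type u} {G' : Type v} [Group G] [Group G'] [Finite G] [Finite G'] (e : G ≃* G') {d : ℕ} (h : RD G' ⊤ d) : RD G ⊤ d := by
  obtain ⟨χ, h1, ⟨n, -, h2⟩, h3⟩ := h
  refine ⟨⟨(χ : G' → ℂ) ∘ e, Cfsg.Agent.Characters.Core.isIrr_comp e.toMonoidHom e.surjective χ.2⟩, fun g => h1 (e g),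
    ⟨e.symm n, trivial, ?_⟩, ?_⟩
  · show (χ : G' → ℂ) (e (e.symm n)) ≠ (χ : G' → ℂ) (e 1)
    rw [MulEquiv.apply_symm_apply, map_one]
    exact h2
  · rw [← h3]
    refine H612.Heredity.charDegree_eq_of_one ?_
    show (χ : G' → ℂ) (e 1) = (χ : G' → ℂ) 1
    rw [map_one]

theorem R3.equiv {G : Type u} {G' : Type v} [Group G] [Group G'] [Finite G] [Finite G'] (e : G ≃* G') (h : R3 G' ⊤) : R3 G ⊤ := by
  obtain ⟨a, b, c, h1, h2, h3, ha, hb, hc⟩ := h
  exact ⟨a, b, c, h1, h2, h3, RD.equiv e ha, RD.equiv e hb, RD.equiv e hc⟩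

/-- The row of a group without outer automorphisms. -/
theorem row_of_model {S₀ : Type v} [Group S₀] [Finite S₀] (hout : Nat.card (Out S₀) = 1) (h : R3 S₀ ⊤)
    {S : Type u} [Group S] (e : Nonempty (S ≃* S₀)) : Row S := by
  intro G _ _ N _ f hC _
  obtain ⟨e⟩ := e
  obtain ⟨f⟩ := f
  have h1 := index_dvd_out N (e.symm.trans f) hC
  rw [hout, Nat.dvd_one, Subgroup.index_eq_one] at h1
  subst h1
  exact R3.equiv ((Subgroup.topEquiv.symm.trans f.symm).trans e) h

section Even

variable {G : Type u} [Group G] [Finite G] {p : ℕ} [hp : Fact p.Prime]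

/-- An element of `N(P)` outside `C(P)` with square in `C(P)` makes the index even. -/
theorem even_of_sq (P : Subgroup G) {g : G} (hg : g ∈ Subgroup.normalizer (P : Set G))
    (h1 : g ∉ Subgroup.centralizer (P : Set G)) (h2 : g * g ∈ Subgroup.centralizer (P : Set G)) :
    Even ((Subgroup.centralizer (P : Set G)).relIndex (Subgroup.normalizer (P : Set G))) := by
  have hk := Subgroup.normalizerMonoidHom_ker P
  set f := P.normalizerMonoidHom with hf
  have h3 : (Subgroup.centralizer (P : Set G)).relIndex (Subgroup.normalizer (P : Set G)) = Nat.card f.range := by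
    rw [Subgroup.relIndex, ← hk, Subgroup.index_ker]
  rw [h3]
  have hne : f ⟨g, hg⟩ ≠ 1 := by
    intro h
    have h4 : (⟨g, hg⟩ : Subgroup.normalizer (P : Set G)) ∈ f.ker := h
    rw [hk] at h4
    exact h1 h4
  have hsq : f ⟨g, hg⟩ ^ 2 = 1 := by
    rw [pow_two, ← map_mul]
    have h4 : (⟨g, hg⟩ * ⟨g, hg⟩ : Subgroup.normalizer (P : Set G)) ∈ f.ker := by
      rw [hk]
      exact h2
    exact h4
  have ho : orderOf (⟨f ⟨g, hg⟩, ⟨_, rfl⟩⟩ : f.range) = 2 := by
    haveI : Fact (Nat.Prime 2) := ⟨Nat.prime_two⟩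
    refine orderOf_eq_prime (Subtype.ext hsq) fun h => hne (congrArg Subtype.val h)
  rw [even_iff_two_dvd, ← ho]
  exact orderOf_dvd_natCard _

/-- A real element of order divisible by `p` gives an even index. -/
theorem even_of_real (hp2 : p ≠ 2) (P : Sylow p G) (hP : Nat.card P = p) {x : G} (hx : p ∣ orderOf x)
    (hr : IsConj x x⁻¹) :
    Even ((Subgroup.centralizer ((P : Subgroup G) : Set G)).relIndex
      (Subgroup.normalizer ((P : Subgroup G) : Set G))) := by
  obtain ⟨m, hm⟩ := hx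
  have hx0 : 0 < orderOf x := orderOf_pos x
  have hm0 : m ≠ 0 := by
    rintro rfl
    omega
  -- `y = x ^ m` has order `p`
  have hy : orderOf (x ^ m) = p := by
    rw [orderOf_pow_of_dvd hm0 ⟨p, by rw [hm, mul_comm]⟩, hm]
    exact Nat.mul_div_cancel _ (Nat.pos_of_ne_zero hm0)
  obtain ⟨c, hc⟩ := isConj_iff.1 hr
  have hcy : c * x ^ m * c⁻¹ = (x ^ m)⁻¹ := by
    rw [← conj_pow, hc, inv_pow]
  -- conjugate into `P`
  have hyp : IsPGroup p (Subgroup.zpowers (x ^ m)) :=
    IsPGroup.of_card (n := 1) (by rw [Nat.card_zpowers, hy, pow_one])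
  obtain ⟨Q, hQ⟩ := hyp.exists_le_sylow
  obtain ⟨d, hd⟩ := MulAction.exists_smul_eq G Q P
  have hyP : d * x ^ m * d⁻¹ ∈ (P : Subgroup G) := by
    rw [← hd]
    show d * x ^ m * d⁻¹ ∈ ((d • Q : Sylow p G) : Subgroup G)
    rw [Sylow.coe_subgroup_smul]
    exact Subgroup.smul_mem_pointwise_smul _ (MulAut.conj d) _ (hQ (Subgroup.mem_zpowers _))
  set z := d * x ^ m * d⁻¹ with hz
  have hz1 : z ≠ 1 := by
    intro h
    have h1 : x ^ m = 1 := by
      have : x ^ m = d⁻¹ * z * d := by rw [hz]; group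
      rw [this, h]; group
    rw [h1, orderOf_one] at hy
    exact hp.out.one_lt.ne hy
  have hzP : Subgroup.zpowers z = (P : Subgroup G) := Blocks.CyclicOrtho.zpowers_eq P hP hyP hz1
  set g := d * c * d⁻¹ with hg
  have hgz : g * z * g⁻¹ = z⁻¹ := by
    have e1 : g * z * g⁻¹ = d * (c * x ^ m * c⁻¹) * d⁻¹ := by
      rw [hg, hz]
      generalize x ^ m = w
      group
    rw [e1, hcy, hz, mul_inv_rev, mul_inv_rev, inv_inv, mul_assoc]
  have hgn : g ∈ Subgroup.normalizer ((P : Subgroup G) : Set G) := by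
    rw [← hzP]
    have h1 : (Subgroup.zpowers z).map (MulAut.conj g).toMonoidHom = Subgroup.zpowers z := by
      rw [MonoidHom.map_zpowers]
      have h2 : (MulAut.conj g).toMonoidHom z = z⁻¹ := hgz
      rw [h2, Subgroup.zpowers_inv]
    rw [Subgroup.mem_normalizer_iff]
    intro h
    constructor
    · intro hh
      rw [← h1]
      exact ⟨h, hh, rfl⟩
    · intro hh
      rw [← h1] at hh
      obtain ⟨k, hk, hk2⟩ := hh
      have h3 : k = h := (MulAut.conj g).injective hk2
      rwa [← h3]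
  refine even_of_sq (P : Subgroup G) hgn ?_ ?_
  · intro hgc
    have h1 := (Subgroup.mem_centralizer_iff.1 hgc) z hyP
    have h2 : z = z⁻¹ := by
      rw [← hgz, ← h1]; group
    have h3 : z ^ 2 = 1 := by
      rw [pow_two]
      nth_rewrite 2 [h2]
      exact mul_inv_cancel z
    have h4 := orderOf_dvd_of_pow_eq_one h3
    rw [Blocks.CyclicOrtho.orderOf_eq P hP hyP hz1] at h4
    exact hp2 ((Nat.prime_dvd_prime_iff_eq hp.out Nat.prime_two).1 h4)
  · rw [← Blocks.CyclicOrtho.centralizer_eq P hP hyP hz1, Subgroup.mem_centralizer_singleton_iff]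
    have h1 : g * g * z * (g * g)⁻¹ = z := by
      calc g * g * z * (g * g)⁻¹ = g * (g * z * g⁻¹) * g⁻¹ := by group
        _ = g * z⁻¹ * g⁻¹ := by rw [hgz]
        _ = (g * z * g⁻¹)⁻¹ := by group
        _ = z := by rw [hgz, inv_inv]
    calc g * g * z = g * g * z * (g * g)⁻¹ * (g * g) := by group
      _ = z * (g * g) := by rw [h1]

/-- Burnside: in a simple group the index is not `1`. -/
theorem relIndex_ne_one [IsSimpleGroup G] (P : Sylow p G) (hP : Nat.card P = p) (hG : Nat.card G ≠ p) :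
    (Subgroup.centralizer ((P : Subgroup G) : Set G)).relIndex
      (Subgroup.normalizer ((P : Subgroup G) : Set G)) ≠ 1 := by
  intro h
  rw [Subgroup.relIndex_eq_one] at h
  have h1 := MonoidHom.ker_transferSylow_isComplement' P h
  rcases (MonoidHom.normal_ker (MonoidHom.transferSylow P h)).eq_bot_or_eq_top with h2 | h2
  · rw [h2, Subgroup.isComplement'_bot_left] at h1
    apply hG
    have h3 : Nat.card (P : Subgroup G) = p := hP
    rw [h1, Subgroup.card_top] at h3
    exact h3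
  · rw [h2, Subgroup.isComplement'_top_left] at h1
    have h3 : Nat.card (P : Subgroup G) = p := hP
    rw [h1, Subgroup.card_bot] at h3
    exact hp.out.one_lt.ne h3

/-- In a simple group the index is even for a Fermat prime `p`. -/
theorem even_of_fermat [IsSimpleGroup G] (P : Sylow p G) (hP : Nat.card P = p) (hG : Nat.card G ≠ p)
    {k : ℕ} (hk : p - 1 = 2 ^ k) :
    Even ((Subgroup.centralizer ((P : Subgroup G) : Set G)).relIndex
      (Subgroup.normalizer ((P : Subgroup G) : Set G))) := by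
  have h1 := relIndex_dvd P hP
  rw [hk] at h1
  obtain ⟨j, -, hj⟩ := (Nat.dvd_prime_pow Nat.prime_two).1 h1
  rw [hj]
  rcases Nat.eq_zero_or_pos j with h | h
  · exfalso
    rw [h, pow_zero] at hj
    exact relIndex_ne_one P hP hG hj
  · exact (Nat.even_pow.2 ⟨even_two, h.ne'⟩)

/-- **Three degrees**: a real degree `d` which is not `≡ ± 1, ± e` modulo `p` for any even divisor `e` of `p - 1`. -/
theorem three_of_degree (hp2 : p ≠ 2) (P : Sylow p G) (hP : Nat.card P = p)
    (he : Even ((Subgroup.centralizer ((P : Subgroup G) : Set G)).relIndex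
      (Subgroup.normalizer ((P : Subgroup G) : Set G))))
    (N : Subgroup G) [N.Normal] (hPN : (P : Subgroup G) ≤ N)
    (hN : N ⊔ Subgroup.centralizer ((P : Subgroup G) : Set G) = ⊤) {d : ℕ} (hd : RD G N d)
    (h1 : ∀ s : ℤ, (s = 1 ∨ s = -1) → ¬ (p : ℤ) ∣ (d : ℤ) - s)
    (h2 : ∀ e ∈ (p - 1).divisors, Even e → ∀ s : ℤ, (s = 1 ∨ s = -1) → ¬ (p : ℤ) ∣ (d : ℤ) - s * e) : R3 G N := by
  obtain ⟨a, b, hab, ha, hb, ⟨s, hs, hs1⟩, ⟨t, ht, ht1⟩⟩ := rd_two hp2 P hP rfl he N hPN hN
  refine ⟨a, b, d, hab, ?_, ?_, ha, hb, hd⟩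
  · rintro rfl
    exact h1 s hs hs1
  · rintro rfl
    refine h2 _ (Nat.mem_divisors.2 ⟨relIndex_dvd P hP, ?_⟩) he t ht ht1
    have := hp.out.one_lt
    omega

/-- The same for `N = G`. -/
theorem three_of_degree_top (hp2 : p ≠ 2) (P : Sylow p G) (hP : Nat.card P = p)
    (he : Even ((Subgroup.centralizer ((P : Subgroup G) : Set G)).relIndex
      (Subgroup.normalizer ((P : Subgroup G) : Set G)))) {d : ℕ} (hd : RD G ⊤ d)
    (h1 : ∀ s : ℤ, (s = 1 ∨ s = -1) → ¬ (p : ℤ) ∣ (d : ℤ) - s)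
    (h2 : ∀ e ∈ (p - 1).divisors, Even e → ∀ s : ℤ, (s = 1 ∨ s = -1) → ¬ (p : ℤ) ∣ (d : ℤ) - s * e) : R3 G ⊤ :=
  three_of_degree hp2 P hP he ⊤ le_top (by simp) hd h1 h2

/-- The order of a Sylow subgroup when `p` divides the order exactly once. -/
theorem card_sylow (P : Sylow p G) (h1 : p ∣ Nat.card G) (h2 : ¬ p ^ 2 ∣ Nat.card G) : Nat.card P = p := by
  obtain ⟨n, hn⟩ := IsPGroup.iff_card.1 P.isPGroup'
  have h3 : p ∣ Nat.card P := P.dvd_card_of_dvd_card h1
  have h4 : n = 1 := by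
    rcases n with _ | _ | n
    · rw [hn, pow_zero] at h3
      exact absurd (Nat.dvd_one.1 h3) hp.out.one_lt.ne'
    · rfl
    · exfalso
      apply h2
      have h5 : Nat.card P ∣ Nat.card G := Subgroup.card_subgroup_dvd_card _
      rw [hn] at h5
      exact (pow_dvd_pow p (by omega)).trans h5
  rw [hn, h4, pow_one]

end Even

end Cfsg.Agent.H625.R4
end

private theorem dce_f76be3a4cb12 : _root_.True := by
  try have : _root_.True := by simp only [_root_.Cfsg.Agent.H625.Real.conjI.congr_simp]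
  exact _root_.True.intro
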